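import Cfsg.Agent.H10.MS.W
import Cfsg.Agent.H28.MS3
import Cfsg.Agent.H11.Small2

/-! S5899: the chunk `MBD`. -/

set_option autoImplicit false
set_option linter.unusedSectionVars false

namespace H10.MS
open Cfsg Subgroup H18 H17.GS H28.S H2.GW
open H19 hiding eq_bot_mono
open H28.NG hiding Hyp Uniq Ch
open H27.MS
open scoped MatrixGroups

universe u

/-- the numerical consequences of `Eb` for an element inverted by `τ` -/
def Nu {X : Type} [Group X] (τ : X) (e : ℕ) : Prop := ∀ ξ : X, τ * ξ * τ⁻¹ = ξ⁻¹ → ∀ r k : ℕ, r.Prime → Odd r →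
  (orderOf ξ = r ^ (k + 1) → ∃ j, 1 ≤ j ∧ j ≤ e ∧ r ^ (k + 1) ≤ 2 ^ j + 1 ∧ (2 ^ j) ^ 2 % r = 1) ∧
  ∀ s : ℕ, s.Prime → Odd s → r ≠ s → orderOf ξ = r ^ (k + 1) * s → 2 ^ (e - 1) + 1 < r ^ (k + 1) →
    r ^ (k + 1) * s ≤ 2 ^ e + 1

theorem nu_of {X : Type} [Group X] {W : Type*} [CommGroup W] [Finite W] (hW : ∀ w : W, w * w = 1) (ψ : X →* MulAut W)
    (i : Function.Injective ψ) {τ : X} (t : τ * τ = 1) {e : ℕ} (hE : Nat.card W ≤ 2 ^ e * Nat.card (Fx (ψ τ))) :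
    Nu τ e := fun ξ h r k hr ro => by
  have a : ψ τ * ψ τ = 1 := by rw [← map_mul, t, map_one]
  have b : ψ τ * ψ ξ = (ψ ξ)⁻¹ * ψ τ := by rw [← map_inv, ← map_mul, ← map_mul, ← h, inv_mul_cancel_right]
  refine ⟨fun o => ?_, fun s hs so rs o => cc hW a b hE hr ro hs so rs ((orderOf_injective ψ i ξ).trans o)⟩
  obtain ⟨j, c1, c2, -, c3⟩ := pp hW a b hE hr ro ((orderOf_injective ψ i ξ).trans o)
  exact ⟨j, c1, c2, c3⟩

theorem nu {G : Type u} [Group G] [Finite G] {N Q T V₀ V : Subgroup G} (f : Fr N Q T) (s : Sec N Q V₀ V) {X : Type}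
    [Group X] {π : N →* X} (su : Function.Surjective π) (k : ∀ g : N, π g = 1 ↔ (g : G) ∈ Q) {a : N}
    (a2 : a.1 * a.1 ∈ Q) {e : ℕ} (b : Eb V₀ V a e) : Nu (π a) e := by
  haveI : (V₀.subgroupOf V).Normal := (normal_subgroupOf_iff_le_normalizer s.ea.le).2 s.ea.norm
  have hW : ∀ w : V ⧸ V₀.subgroupOf V, w * w = 1 := fun w => QuotientGroup.induction_on w fun v =>
    (QuotientGroup.eq_one_iff (v * v)).2 (s.ea.sq v v.2)
  letI : CommGroup (V ⧸ V₀.subgroupOf V) := { (inferInstance : Group (V ⧸ V₀.subgroupOf V)) with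
    mul_comm := fun x y => by
      rw [eq_inv_of_mul_eq_one_left (hW (x * y)), mul_inv_rev, ← eq_inv_of_mul_eq_one_left (hW x),
        ← eq_inv_of_mul_eq_one_left (hW y)] }
  let c : N →* MulAut V := V.normalizerMonoidHom.comp (inclusion s.nV)
  have cv : ∀ (g : N) (v : V), (c g v : G) = g * v * (g : G)⁻¹ := fun g v => rfl
  have cm : ∀ g : N, (V₀.subgroupOf V).map (c g : V →* V) = V₀.subgroupOf V := fun g => by
    refine le_antisymm ?_ fun v hv => ⟨c g⁻¹ v, ?_, ?_⟩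
    · rintro _ ⟨v, hv, rfl⟩
      exact (mem_normalizer_iff.1 (s.n0 g.2) _).1 hv
    · exact (mem_normalizer_iff.1 (s.n0 g⁻¹.2) _).1 hv
    · show c g (c g⁻¹ v) = v
      rw [← MulAut.mul_apply, ← map_mul, mul_inv_cancel, map_one, MulAut.one_apply]
  let φ : N →* MulAut (V ⧸ V₀.subgroupOf V) := MonoidHom.mk' (fun g => QuotientGroup.congr _ _ (c g) (cm g)) fun g h =>
    MulEquiv.ext fun w => QuotientGroup.induction_on w fun v => by
      show ((c (g * h) v : V) : V ⧸ V₀.subgroupOf V) = (c g (c h v) : V)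
      rw [map_mul, MulAut.mul_apply]
  have fv : ∀ (g : N) (v : V), φ g v = v ↔ (g : G) * v * (g : G)⁻¹ * (v : G)⁻¹ ∈ V₀ := fun g v => by
    show ((c g v : V) : V ⧸ V₀.subgroupOf V) = v ↔ _
    rw [← mul_inv_eq_one, ← QuotientGroup.mk_inv, ← QuotientGroup.mk_mul, QuotientGroup.eq_one_iff]
    rfl
  have f1 : ∀ g : N, φ g = 1 ↔ π g = 1 := fun g => by
    rw [k]
    exact ⟨fun h => H28.MS.cmQ f s ⟨g.2, s.n0 g.2, fun v hv => (fv g ⟨v, hv⟩).1 (by rw [h]; rfl)⟩,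
      fun h => MulEquiv.ext fun w => QuotientGroup.induction_on w fun v => (fv g v).2 ((s.cq h).2 v v.2)⟩
  let ψ : X →* MulAut (V ⧸ V₀.subgroupOf V) := π.liftOfSurjective su ⟨φ, fun g h => (f1 g).2 h⟩
  have p : ∀ g, ψ (π g) = φ g := fun g => π.liftOfRightInverse_comp_apply _ _ _ g
  refine nu_of hW ψ ((injective_iff_map_eq_one ψ).2 fun x h => ?_) (by rw [← map_mul]; exact (k _).2 a2) ?_
  · obtain ⟨g, rfl⟩ := su x
    exact (f1 g).1 (p g ▸ h)
  rw [p]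
  have c0 : Nat.card (V₀.subgroupOf V) = #V₀ := Nat.card_congr (subgroupOfEquivOfLe s.ea.le).toEquiv
  have c1 := card_eq_card_quotient_mul_card_subgroup (V₀.subgroupOf V)
  have c2 := QuotientGroup.card_preimage_mk (V₀.subgroupOf V) (Fx (φ a) : Set _)
  have c3 : #(V ⊓ Cm V₀ (zpowers a.1)) ≤ Nat.card (QuotientGroup.mk ⁻¹' (Fx (φ a) : Set (V ⧸ V₀.subgroupOf V))) :=
    Nat.card_le_card_of_injective (fun v => ⟨⟨v.1, v.2.1⟩, mem_fx.2 ((fv a _).2 (by
      have := V₀.inv_mem (v.2.2.2 a (mem_zpowers _))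
      simpa only [mul_inv_rev, inv_inv, ← mul_assoc] using this))⟩)
      fun v w h => Subtype.ext (congrArg (fun x => x.1.1) h)
  unfold Eb at b
  rw [c2, c0] at c3
  rw [c1, c0] at b
  refine Nat.le_of_mul_le_mul_right (b.trans ?_) (Nat.card_pos (α := V₀))
  rw [mul_assoc, mul_comm _ #V₀]
  exact Nat.mul_le_mul_left _ c3

theorem d63 : ∀ d ∈ Nat.divisors 63, d % 4 = 3 → d = 3 ∨ d = 7 ∨ d = 63 := by decide +kernel
theorem d1071 : ∀ d ∈ Nat.divisors 1071, d % 8 = 3 → d = 3 ∨ d = 51 := by decide +kernel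

theorem q7 {F : Type} [Field F] [Fintype F] {q e : ℕ} (hq : Fintype.card F = q) (hp : q.Prime)
    (h5 : q % 5 = 2 ∨ q % 5 = 3) {τ : PSL(2, F)} (t1 : τ ≠ 1) (t2 : τ * τ = 1) (h : Nu τ e)
    (he : e = 3 ∧ (q % 8 = 1 ∨ q % 8 = 7) ∨ e = 4 ∧ (q % 16 = 9 ∨ q % 16 = 7)) : q = 7 := by
  have o : Odd q := Nat.odd_iff.2 (by omega)
  by_cases h4 : q % 4 = 1
  · obtain ⟨x, a, b⟩ := H28.MS.psl_invp (hq ▸ h4) t1 t2 hp (hq ▸ dvd_rfl)
    obtain ⟨j, -, c, d, -⟩ := (h x b q 0 hp o).1 (by rw [a, zero_add, pow_one])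
    have := Nat.pow_le_pow_right two_pos c
    have := hp.two_le
    rw [zero_add, pow_one] at d
    rcases he with ⟨rfl, he⟩ | ⟨rfl, he⟩ <;> omega
  obtain ⟨d, rfl⟩ := o
  obtain ⟨x, a, b⟩ := H28.MS.psl_inv (n := d) (hq ▸ odd_two_mul_add_one d) t1 t2 (by omega) (.inl (by rw [hq]; rfl))
  have k : ∀ r k : ℕ, r.Prime → r ^ (k + 1) ∣ d → ∃ j, 1 ≤ j ∧ j ≤ e ∧ r ^ (k + 1) ≤ 2 ^ j + 1 ∧ (2 ^ j) ^ 2 % r = 1 ∧
      r ≠ 5 := fun r k hr hd => by
    have r1 : r ∣ d := (dvd_pow_self r k.succ_ne_zero).trans hd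
    obtain ⟨j, c1, c2, c3, c4⟩ := (h (x ^ (orderOf x / r ^ (k + 1))) (by rw [← conj_pow, b, inv_pow]) r k hr
      (Odd.of_dvd_nat (Nat.odd_iff.2 (by omega)) r1)).1 (orderOf_pow_orderOf_div (by omega) (a ▸ hd))
    exact ⟨j, c1, c2, c3, c4, by rintro rfl; omega⟩
  have k2 : ∀ n, (e = 3 → 63 ∣ n) → 1071 ∣ n * 17 → (e = 4 → 1071 ∣ n) → d ∣ n := fun n n1 n2 n3 =>
    (Nat.dvd_iff_prime_pow_dvd_dvd n d).2 fun r i hr hd => by
      rcases i with _ | i
      · exact one_dvd n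
      obtain ⟨j, c1, c2, c3, c4, c5⟩ := k r i hr hd
      have e4 : e ≤ 4 := by omega
      have b1 := Nat.pow_le_pow_right two_pos c2
      have b2 := Nat.pow_le_pow_right two_pos e4
      have b3 : r ≤ r ^ (i + 1) := Nat.le_self_pow i.succ_ne_zero r
      have b4 : i + 1 < 5 := (Nat.pow_lt_pow_iff_right one_lt_two).1
        (lt_of_le_of_lt (Nat.pow_le_pow_left hr.two_le _) (by omega))
      have b5 : r ≤ 17 := by omega
      have b6 : j ≤ 4 := by omega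
      have b7 : i ≤ 3 := by omega
      have r2 := hr.two_le
      have : r ^ (i + 1) ∣ 63 ∨ r ^ (i + 1) = 17 ∧ j = 4 := by
        clear b1 b3 hd k
        interval_cases r <;> first | (exfalso; norm_num at hr; done) | skip
        all_goals interval_cases j <;> interval_cases i <;> first | omega | decide
      rcases this with t | ⟨t, t'⟩
      · exact t.trans (by omega)
      · rw [t]; omega
  rcases he with ⟨rfl, he⟩ | ⟨rfl, he⟩
  · rcases d63 d (Nat.mem_divisors.2 ⟨k2 63 (fun _ => dvd_rfl) (by norm_num) (by omega), by norm_num⟩) (by omega) with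
      rfl | rfl | rfl
    · rfl
    · omega
    · exact absurd ((h x b 3 1 Nat.prime_three (by decide)).2 7 (by norm_num) (by decide) (by decide) a (by norm_num))
        (by norm_num)
  · rcases d1071 d (Nat.mem_divisors.2 ⟨k2 1071 (by omega) (by norm_num) fun _ => dvd_rfl, by norm_num⟩) (by omega) with
      rfl | rfl
    · rfl
    · exact absurd ((h x b 17 0 (by norm_num) (by decide)).2 3 (by norm_num) (by decide) (by decide) a (by norm_num))
        (by norm_num)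

theorem mbd : MBD.{u} := fun {G} _ _ {N Q T V₀ V a n} f d s i b => by
  obtain ⟨F, _, _, q, hq, h, π, su, k⟩ := d.po
  have c1 := H28.MS.card_iso f.nq.le su k
  have c2 := f.syl.card_mul
  have c3 : Odd (T.relIndex N) := Nat.odd_iff.2 (Nat.two_dvd_ne_zero.1 fun t => f.syl.idx 2 Nat.prime_two t rfl)
  have c4 := H11.card_psl_two (F := F)
  obtain ⟨t, ht⟩ := c3
  obtain ⟨m, rfl⟩ := Nat.exists_eq_add_of_le d.two
  have c5 : Nat.card PSL(2, F) = 2 ^ (2 + m + 1) * (2 * t + 1) :=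
    Nat.eq_of_mul_eq_mul_right (Nat.card_pos (α := Q)) (by rw [← c1, ← c2, d.card, ht]; ring)
  have q3 : 3 ≤ q ∧ Odd q := by
    rcases h with ⟨r, hr, -, rfl⟩ | ⟨h, h', -⟩ | rfl
    · exact ⟨Nat.le_self_pow hr.ne_zero 3, Odd.pow (by decide)⟩
    · exact ⟨by omega, h.odd_of_ne_two (by omega)⟩
    · decide
  have c6 : q ^ 3 = q + 16 * (2 ^ m * (2 * t + 1)) := by
    obtain ⟨y, hy⟩ := q3.2
    rw [hq, c5, show q - 1 = 2 * y by omega, Nat.gcd_eq_left (dvd_mul_right _ _), Nat.mul_sub, mul_one] at c4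
    have : q ≤ q * q ^ 2 := Nat.le_mul_of_pos_right _ (pow_pos q3.2.pos _)
    have : q ^ 3 = q * q ^ 2 := by ring
    have : 2 * (2 ^ (2 + m + 1) * (2 * t + 1)) = 16 * (2 ^ m * (2 * t + 1)) := by ring
    omega
  have c7 : (q % 8 = 1 ∨ q % 8 = 7) ∧ (m = 0 → q % 16 = 9 ∨ q % 16 = 7) := by
    have a1 := Nat.pow_mod q 3 32
    have a2 := Nat.odd_iff.1 q3.2
    have a3 : q % 32 < 32 := Nat.mod_lt _ (by norm_num)
    refine ⟨?_, ?_⟩
    · generalize 2 ^ m * (2 * t + 1) = y at c6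
      generalize hz : q % 32 = z at a1 a3
      interval_cases z <;> omega
    · rintro rfl
      generalize hz : q % 32 = z at a1 a3
      interval_cases z <;> omega
  have t1 : π ⟨a, i.1⟩ ≠ 1 := fun t => i.2.1 ((k _).1 t)
  have t2 : π ⟨a, i.1⟩ * π ⟨a, i.1⟩ = 1 := by rw [← map_mul]; exact (k _).2 i.2.2
  rcases h with ⟨r, hr, r2, rfl⟩ | ⟨h, -, h5⟩ | rfl
  · obtain ⟨y, rfl⟩ := hr.odd_of_ne_two r2
    have : 3 ^ (2 * y + 1) % 8 = 3 := by rw [pow_succ, pow_mul, Nat.mul_mod, Nat.pow_mod]; norm_num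
    have := c7.1
    generalize 3 ^ (2 * y + 1) = z at *
    omega
  swap
  · exact absurd c7.1 (by norm_num)
  have q7' : q = 7 := by
    rcases b with b | ⟨b, m0⟩
    · exact q7 hq h h5 t1 t2 (nu f s su k (a := ⟨a, i.1⟩) i.2.2 b) (.inl ⟨rfl, c7.1⟩)
    · exact q7 hq h h5 t1 t2 (nu f s su k (a := ⟨a, i.1⟩) i.2.2 b) (.inr ⟨rfl, c7.2 (by omega)⟩)
  obtain ⟨e⟩ := H11.nonempty_psl2_seven_equiv (K := ZMod 2) (hq.trans q7') (ZMod.card 2)
  have e' : PSL(3, ZMod 2) ≃* SL(3, ZMod 2) := (QuotientGroup.quotientMulEquivOfEq (card_eq_one.1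
    (H11.card_center_sl.trans (by simp)))).trans QuotientGroup.quotientBot
  exact ⟨(e.trans e').toMonoidHom.comp π, (e.trans e').surjective.comp su, fun g =>
    ((e.trans e').map_eq_one_iff).trans (k g)⟩

end H10.MS
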