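import Cfsg.Agent.H13.MS2
import Cfsg.Agent.H3.MS1
import Cfsg.Agent.H19.MS1

/-! S5899, part 3: the `2`-rank of `H/D` is at most two if `T` is self-normalizing. -/

set_option autoImplicit false
set_option linter.unusedVariables false
set_option linter.unusedSectionVars false

namespace H10.MS
open Cfsg Subgroup H18 H17.GS H28.S H2.GW
open H19 hiding eq_bot_mono
open H28.NG hiding Hyp Uniq Ch
open H27.MS H12.MS

universe u

open H19.MS (S9 u9 o9 c33) in
theorem rk9 {B : Subgroup S9} (h : Abelem 2 B) : #B ≤ 4 := by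
  have p : H19.PG 2 (zpowers u9) := pG_iff.2 (.of_card ((Nat.card_zpowers _).trans o9))
  obtain ⟨P, sy, l⟩ := p.exists_syl (le_top : _ ≤ ⊤)
  obtain ⟨g, -, k⟩ := sy.sle_cj le_top (ab_pg h)
  obtain ⟨j, hj⟩ := sy.pi.exists_card
  have d : 2 ^ j ∣ 5616 := hj ▸ c33 ▸ card_subgroup_dvd_card P
  have : j ≤ 4 := by
    by_contra! q
    exact absurd ((pow_dvd_pow 2 q).trans d) (by decide)
  have l4 : 2 ^ j ≤ 2 ^ 4 := Nat.pow_le_pow_right two_pos this
  have c := H3.MS.card_inf k (cj_mono g l)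
  rw [card_cj, card_cj, Nat.card_zpowers, o9, hj] at c
  have cy : Cyc (B ⊓ cj g (zpowers u9)) := cyc_mono (cyc_J (cyc_zpowers u9) g) inf_le_right
  obtain ⟨ξ, hξ⟩ := cyc_iff.1 cy
  have c3 : #(B ⊓ cj g (zpowers u9)) ≤ 2 := by
    rw [← hξ, Nat.card_zpowers]
    exact orderOf_le_of_pow_eq_one (by decide) (h.2 ξ ((hξ.le.trans inf_le_left) (mem_zpowers ξ)))
  nlinarith

theorem rk (ty : Ty.{u}) : H13.MS.RK.{u} := by
  intro G _ _ N Q T A h nT a l
  obtain ⟨-, ⟨E, B⟩ | K | ⟨n, t⟩ | ⟨π, -, k⟩⟩ := ty h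
  · obtain ⟨qe, et, c⟩ := H3.MS.be_big h B
    have p := Nat.card_pos (α := Q)
    obtain ⟨x, x1, y, y1, x0, y0, xy⟩ := H3.MS.pair (et.trans (h.nq.norms h.syl.le))
      (by rw [inf_eq_right.2 qe]; omega)
    have y2 := ((B.mem y).1 y1).2
    obtain ⟨g, g1, g2⟩ := B.tr x y ⟨et x1, x0, ((B.mem x).1 x1).2⟩ ⟨et y1, y0, y2⟩
    have g3 := (B.cen (nT g1.2)).2 x x1
    refine absurd ?_ xy
    have := mul_mem (mul_mem (inv_mem g3) g2) y2
    convert this using 1
    group
  · have c := H3.MS.card_inf l h.le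
    have p := Nat.card_pos (α := Q)
    rw [K.card] at c
    nlinarith
  · exact H3.MS.di4 h t a l
  · have c := rk9 (abelem_im a π)
    have e : π.ker = Q.subgroupOf N := by ext x; exact k x
    have r : Q.relIndex A = #(im π A) := by
      rw [im, ← relIndex_ker, e, relIndex_subgroupOf (l.trans h.TN)]
    have := card_inf_mul_relIndex Q A
    rw [inf_comm, r] at this
    nlinarith

end H10.MS
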