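import Cfsg.Agent.H13.MS2
import Cfsg.Agent.H12.MS0
import Cfsg.Agent.H17.MS4

/-! S5899, part 3, the case `C(p) ≤ N`: chunks `TZ TB`. -/

set_option autoImplicit false
set_option linter.unusedVariables false
set_option linter.unusedSectionVars false

namespace H10.MS
open Cfsg Subgroup H18 H17.GS H28.S H2.GW
open H19 hiding eq_bot_mono
open H28.NG hiding Hyp Uniq Ch
open H27.MS H12.MS
open H17.MS (bdVQ bdne bdnV bdcV)

universe u
variable {G : Type u} [Group G] [Finite G] {V X Y : Subgroup G} {g : G}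

theorem tz (nr : NR.{u}) : H13.MS.TZ.{u} := fun {G} _ _ {N Q T V R p} h r0 r1 r2 r3 => by
  have b := h.toBd
  have s := ((nr b).1).of_le r2 le_top
  have p2 := sq_one b.sec.ab h.pV
  have dp : p ∈ C(Oc {2} N(R)) := le_cent1_iff.1 ((Oc_le_hall s).trans h.pT)
  have pd : p ∈ Oc {2} N(R) := b.hy.chr R r0 r1 ⟨r2 (b.toFr.le (bdVQ b h.pV)), dp⟩
  have l : Kc (zpowers p) N(R) ≤ Zs (Oc {2} N(R)) :=
    Kc_le_of (abelem_le_Ohm1 (abelem_zp p2) (zpowers_le' (mem_inf.2 ⟨pd, dp⟩)))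
      ((Oc_norm _ _).trans (norm_le_norm_Ohm1_center 2 _))
  exact ⟨_, ⟨abelem_mono (abelem_Ohm1_center 2 _) l, le_antisymm (Kc_mono le_rfl Kc_norm) (Kc_le_of le_Kc le_rfl),
    r2.trans Kc_norm, fun k => r3 (Kc_norm.trans k)⟩, Kc_norm⟩

/-- the subgroup generated by the conjugates of `V` in `X` -/
def Wv (V X : Subgroup G) : Subgroup G := ⨆ g : {g // cj g V ≤ X}, cj g.1 V

theorem le_Wv (h : cj g V ≤ X) : cj g V ≤ Wv V X := le_iSup (fun g : {g // cj g V ≤ X} => cj g.1 V) ⟨g, h⟩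

theorem Wv_le (h : ∀ g, cj g V ≤ X → cj g V ≤ Y) : Wv V X ≤ Y := iSup_le fun g => h g.1 g.2

theorem Wv_norm : N(X) ≤ N(Wv V X) := fun x hx => mem_norm_of_cj_le (cj_le_iff.2 (Wv_le fun g k => cj_le_iff.1 (by
  rw [← cj_mul]
  exact le_Wv (by rw [cj_mul]; exact (cj_mono x k).trans (cj_of_mem_norm hx).le))))

theorem Wv_eq (h : Y ≤ X) (k : ∀ g, cj g V ≤ X → cj g V ≤ Y) : Wv V X = Wv V Y :=
  le_antisymm (Wv_le fun g l => le_Wv (k g l)) (Wv_le fun g l => le_Wv (l.trans h))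

theorem tb (nr : NR.{u}) (ta : H13.MS.TA.{u}) : H13.MS.TB.{u} := fun {G} _ _ {N Q T V Z p} h z => by
  by_contra! k
  have b := h.toBd
  have f := b.toFr
  have e1 : Wv V T = Wv V Q := Wv_eq f.le fun g l => by
    have := (ta h).2 g 1 (by rw [cj_one, bdnV b]; exact l.trans f.TN)
    rwa [cj_one, bdcV b] at this
  have e2 : Wv V T = Wv V (T ⊓ C(Z)) := Wv_eq inf_le_left fun g l => le_inf l (k g l)
  have vw : V ≤ Wv V Q := by
    have := le_Wv (g := 1) (V := V) (X := Q) (by rw [cj_one]; exact bdVQ b)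
    rwa [cj_one] at this
  have n : N(Wv V Q) = N := b.nrm _ (ne_bot_mono vw (bdne b))
    ⟨Wv_le fun g l => l.trans f.QN, f.nq.norm.trans Wv_norm⟩
  have pz : p ∈ Z := z.eZ.ge (le_Kc (mem_zpowers p))
  refine z.nN ?_
  rw [← (((nr b).1.of_le z.TN le_top).inf_normal (cent_normal_norm Z)).frattini (cent_normal_norm Z)]
  exact sup_le ((cent_le_cent1 pz).trans h.cp) (inf_le_right.trans (Wv_norm.trans (by rw [← e2, e1, n])))

end H10.MS
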