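import Cfsg.Agent.H1.MS2
import Cfsg.Agent.H3.MS1
import Cfsg.Agent.H17.MS4

/-! S5899, part 3, `C[p] ≤ N`: chunk `TD` (the sign of the action on transvections). -/

set_option autoImplicit false
set_option linter.unusedVariables false
set_option linter.unusedSectionVars false

namespace H10.MS
open Cfsg Subgroup H18 H17.GS H28.S H2.GW
open H19 hiding eq_bot_mono
open H28.NG hiding Hyp Uniq Ch
open H27.MS H12.MS
open H17.MS (bdVQ bdne bdnV bdcV)
open H1.MS (Tr Sv)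

universe u

/-- the sign of a conjugation action -/
theorem sgn {T H : Type*} [Group T] [Group H] [Finite H] (φ : T →* H) (S : Set H)
    (hS : ∀ t, ∀ s ∈ S, φ t * s * (φ t)⁻¹ ∈ S) : ∃ χ : T →* ℤˣ,
    (∀ t, (∀ s ∈ S, φ t * s * (φ t)⁻¹ = s) → χ t = 1) ∧
    ∀ t, ∀ s ∈ S, ∀ s' ∈ S, s ≠ s' → φ t * s * (φ t)⁻¹ = s' → φ t * s' * (φ t)⁻¹ = s →
      (∀ r ∈ S, r ≠ s → r ≠ s' → φ t * r * (φ t)⁻¹ = r) → χ t = -1 := by
  classical
  letI : Fintype S := Fintype.ofFinite _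
  letI : MulAction T S :=
    { smul t s := ⟨φ t * s * (φ t)⁻¹, hS t s s.2⟩
      one_smul s := Subtype.ext (by show φ 1 * s * (φ 1)⁻¹ = s; simp)
      mul_smul a b s := Subtype.ext (by
        show φ (a * b) * s * (φ (a * b))⁻¹ = φ a * (φ b * s * (φ b)⁻¹) * (φ a)⁻¹
        rw [map_mul]; group) }
  refine ⟨Equiv.Perm.sign.comp (MulAction.toPermHom T S), fun t k => ?_, fun t s h s' h' n e e' k => ?_⟩
  · have : MulAction.toPermHom T S t = 1 := Equiv.ext fun s => Subtype.ext (k s s.2)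
    rw [MonoidHom.comp_apply, this, map_one]
  · have : MulAction.toPermHom T S t = Equiv.swap ⟨s, h⟩ ⟨s', h'⟩ := Equiv.ext fun r => by
      by_cases a : r = ⟨s, h⟩
      · rw [a, Equiv.swap_apply_left]; exact Subtype.ext e
      by_cases b : r = ⟨s', h'⟩
      · rw [b, Equiv.swap_apply_right]; exact Subtype.ext e'
      rw [Equiv.swap_apply_of_ne_of_ne a b]
      exact Subtype.ext (k r r.2 (fun j => a (Subtype.ext j)) fun j => b (Subtype.ext j))
    rw [MonoidHom.comp_apply, this, Equiv.Perm.sign_swap (fun j => n (congrArg Subtype.val j))]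

theorem td (t1 : H1.MS.T1.{u}) : H1.MS.TD.{u} := fun {G} _ _ {N Q T V P R D U p a} b pV p1 t s VU DR aQ tr => by
  obtain ⟨f, fC, fo, f0, f3, fi, c, fa, tri⟩ := t1 s tr
  have ab := b.sec.ab
  have p2 := sq_one ab pV
  have ZV : zpowers p ≤ V := zpowers_le' pV
  have cZ : ∀ {X : Subgroup G} {g : G}, g ∈ C[p] → g ∈ C(X) → g ∈ Cm (zpowers p) X := fun h1 h2 =>
    ⟨s.nZ h1, fun x hx => by rw [← mem_cent.1 h2 x hx]; simp⟩
  have vn : V ≤ N(zpowers p) := VU.trans s.ea.norm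
  have n : C[p] ≤ N(D) := s.eD ▸ Oc_norm _ _
  have PC : P ≤ C[p] := t.eP ▸ inf_le_right
  have PN : P ≤ N := t.eP ▸ inf_le_left
  have RP : R ≤ P := t.eR ▸ Oc_le _ _
  have Wle : ∀ X ≤ V, f ∈ Cm (zpowers p) X → X ≤ V ⊓ Cm (zpowers p) (zpowers f) := fun X l k =>
    le_inf l (Cm_symm (zpowers_le' k) (l.trans vn))
  have cW : 8 ≤ 2 * #(V ⊓ Cm (zpowers p) (zpowers f)) := by
    have := H3.MS.card_inf (le_inf VU (Cm_symm (zpowers_le' (cZ tr.1 (b.sec.cq' aQ))) vn)) (le_inf inf_le_left fa)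
    rw [c, b.c8, ← inf_assoc, inf_eq_left.2 VU] at this
    have q := card_pos (U ⊓ Cm (zpowers p) (zpowers f))
    nlinarith
  have fW : f ∈ Cm (zpowers p) (V ⊓ Cm (zpowers p) (zpowers f)) :=
    Cm_symm inf_le_right (zpowers_le' (s.nZ fC)) (mem_zpowers f)
  have WV : V ⊓ Cm (zpowers p) (zpowers f) ≤ V := inf_le_left
  generalize V ⊓ Cm (zpowers p) (zpowers f) = W at Wle cW fW WV
  have ZW : zpowers p ≤ W := Wle _ ZV (cZ fC (cent_zpowers p ▸ fC))
  have nW : ∀ {X : Subgroup G} {g : G}, zpowers p ≤ X → g ∈ Cm (zpowers p) X → g ∈ N(X) := fun l k =>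
    mem_norm_of_cj_le fun y hy => by
      obtain ⟨x, hx, rfl⟩ := mem_cj'.1 hy
      simpa using mul_mem (l (k.2 x hx)) hx
  have lt : W < V := lt_of_le_of_ne WV fun e => by
    rw [e] at fW
    have fR := t.ker f (t.eP ▸ ⟨bdnV b ▸ nW ZV fW, fC⟩) fW
    obtain ⟨k, hk⟩ := (t.eR ▸ Oc_pi {2} P : H19.PG 2 R).exists_card
    have := (Nat.Coprime.pow_right k fo.coprime_two_right).eq_one_of_dvd (hk ▸ orderOf_dvd_card' fR)
    exact f0 (orderOf_eq_one_iff.1 this ▸ one_mem _)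
  have c4 : #W = 4 := by
    have h1 := card_lt lt
    have h2 := card_dvd_of_le WV
    rw [b.c8] at h1 h2
    generalize #W = m at h1 h2 cW
    interval_cases m <;> omega
  have fc : f ∈ C(W) := le_cent1_iff.1 fun w hw => mem_cent1_symm.1 (mem_of_sq fo (mem_cent1_conj.2 (by
    have k := fW.2 w hw
    have e := mem_cent.1 (cent_zpowers p ▸ fC : f ∈ C(zpowers p)) _ k
    have q := sq_one (abelem_zp p2) k
    generalize hc : f * w * f⁻¹ * w⁻¹ = z at e q
    have e1 : f * w * f⁻¹ = z * w := by rw [← hc]; group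
    calc _ = f * (f * w * f⁻¹) * f⁻¹ := by group
      _ = f * z * w * f⁻¹ := by rw [e1, ← mul_assoc f z]
      _ = z * (f * w * f⁻¹) := by rw [← e]; group
      _ = w := by rw [e1, ← mul_assoc, q, one_mul])))
  have nf := n fC
  have na := n tr.1
  have F3 : qm D f ^ 3 = 1 := by rw [← qm_pow nf]; exact (qm_eq_one (pow_mem nf 3)).2 f3
  have F0 : qm D f ≠ 1 := mt (qm_eq_one nf).1 f0
  have Fi : qm D a * qm D f * (qm D a)⁻¹ = (qm D f)⁻¹ := by
    have m := mul_mem (mul_mem na nf) (inv_mem na)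
    rw [eq_inv_iff_mul_eq_one, ← qm_conj na nf, ← qm_mul m nf]
    exact (qm_eq_one (mul_mem m nf)).2 fi
  have Fc : qm D (f * a * f⁻¹ * a⁻¹) = qm D f ^ 2 := by
    rw [qm_mul (mul_mem (mul_mem nf na) (inv_mem nf)) (inv_mem na), qm_conj nf na, qm_inv na]
    calc _ = qm D f * (qm D a * qm D f * (qm D a)⁻¹)⁻¹ := by group
      _ = _ := by rw [Fi, inv_inv, sq]
  have F2 : ∀ k, qm D f ^ 2 ^ k ≠ 1 := fun k e => F0 (orderOf_eq_one_iff.1 (Nat.eq_one_of_dvd_coprimes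
    (Nat.Coprime.pow_left k (by decide : Nat.Coprime 2 3)) (orderOf_dvd_of_pow_eq_one e)
    (orderOf_dvd_of_pow_eq_one F3)))
  have trJ : ∀ {x y : G}, x ∈ C[p] → Tr C[p] D (zpowers p) U y → Tr C[p] D (zpowers p) U (x * y * x⁻¹) :=
    fun {x y} hx h => ⟨mul_mem (mul_mem hx h.1) (inv_mem hx),
      fun k => h.2.1 (by simpa [mul_assoc] using conj_mem_of_norm' (n hx) k), by
      have := h.2.2.J x
      rwa [cj_of_mem_norm (s.nZ hx), cj_of_mem_norm (s.nU hx)] at this⟩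
  have eq : ∀ {x y : G}, x ∈ C[p] → y ∈ C[p] → x * y⁻¹ ∈ D → qm D x = qm D y := fun hx hy k => by
    rw [← mul_inv_eq_one, ← qm_inv (n hy), ← qm_mul (n hx) (inv_mem (n hy))]
    exact (qm_eq_one (mul_mem (n hx) (inv_mem (n hy)))).2 k
  have RT : R ≤ P ⊓ N(W) := le_inf RP fun x hx => nW ZW (Cm_anti WV (Cm_symm
    (le_Cm vn t.cm) (RP.trans (PC.trans s.nZ)) hx))
  have TD : P ⊓ N(W) ≤ N(D) := inf_le_left.trans (PC.trans n)
  have hφ : ∀ x : ↥(P ⊓ N(W)), ((qmk D).comp (inclusion TD)) x = qm D x := fun x => (qm_eq (TD x.2)).symm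
  obtain ⟨χ, h1, h2⟩ := sgn ((qmk D).comp (inclusion TD))
    {β | ∃ y, Tr C[p] D (zpowers p) U y ∧ y ∈ Cm (zpowers p) W ∧ qm D y = β} (by
      rintro x _ ⟨y, y1, y2, rfl⟩
      refine ⟨_, trJ (PC x.2.1) y1, conj_mem_of_norm (norms_Cm (inf_le_left.trans (PC.trans s.nZ)) inf_le_right x.2) y2,
        ?_⟩
      rw [hφ, qm_conj (TD x.2) (n y1.1)])
  have aW : a ∈ C(W) := cent_mono WV (b.sec.cq' aQ)
  have aT : a ∈ P ⊓ N(W) := RT (t.QR aQ)
  have sa : χ ⟨a, aT⟩ = -1 := by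
    have u1 := trJ fC tr
    have u2 := trJ (inv_mem fC) tr
    refine h2 _ _ ⟨_, u1, cZ u1.1 (mul_mem (mul_mem fc aW) (inv_mem fc)), rfl⟩ _
      ⟨_, u2, cZ u2.1 (mul_mem (mul_mem (inv_mem fc) aW) (inv_mem (inv_mem fc))), rfl⟩ ?_ ?_ ?_ ?_
    · rw [qm_conj nf na, qm_conj (inv_mem nf) na, qm_inv nf]
      refine fun e => F2 2 ?_
      generalize qm D f = F at e Fi
      generalize qm D a = A at e Fi
      calc F ^ 2 ^ 2 = F * (F * (A * F * A⁻¹)⁻¹) * (A * F * A⁻¹)⁻¹ := by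
            rw [Fi, inv_inv]; norm_num [pow_succ, mul_assoc]
        _ = F * (F * A * F⁻¹) * F⁻¹ * A⁻¹ := by group
        _ = 1 := by rw [e]; group
    · rw [hφ, qm_conj nf na, qm_conj (inv_mem nf) na, qm_inv nf]
      calc _ = (qm D a * qm D f * (qm D a)⁻¹) * qm D a * (qm D a * qm D f * (qm D a)⁻¹)⁻¹ := by group
        _ = _ := by rw [Fi]
    · rw [hφ, qm_conj nf na, qm_conj (inv_mem nf) na, qm_inv nf]
      calc _ = (qm D a * qm D f * (qm D a)⁻¹)⁻¹ * qm D a * (qm D a * qm D f * (qm D a)⁻¹) := by group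
        _ = _ := by rw [Fi, inv_inv]
    · rintro _ ⟨y, y1, -, rfl⟩ k1 k2
      rw [hφ, ← qm_conj na (n y1.1)]
      rcases tri y y1 with k | k | k
      · exact eq (trJ tr.1 y1).1 y1.1 k
      · exact absurd (eq u1.1 y1.1 k).symm k1
      · exact absurd (eq u2.1 y1.1 (by rwa [inv_inv])).symm k2
  have mem : ∀ x (hx : x ∈ P ⊓ N(W)), x ∈ χ.ker.map (P ⊓ N(W)).subtype ↔ χ ⟨x, hx⟩ = 1 := fun x hx =>
    mem_map_iff_mem (f := (P ⊓ N(W)).subtype) (subtype_injective _) (x := ⟨x, hx⟩)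
  refine ⟨W, f, χ.ker.map (P ⊓ N(W)).subtype, ZW (mem_zpowers p), WV, c4, fc, fun k e => F2 (k + 1) ?_,
    map_subtype_le _, ?_, fun d hd => (mem d (RT (DR hd))).2 (h1 _ fun r _ => ?_), fun e => ?_, fun x hx x0 => ?_⟩
  · have m := mul_mem (mul_mem (mul_mem nf na) (inv_mem nf)) (inv_mem na)
    rw [pow_succ', pow_mul, ← Fc, ← qm_pow m]
    exact (qm_eq_one (pow_mem m _)).2 e
  · have r : χ.range = ⊤ := eq_top_iff.2 fun z _ => by
      rcases Int.units_eq_one_or z with rfl | rfl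
      · exact one_mem _
      · exact ⟨_, sa⟩
    rw [card_map_of_injective (subtype_injective _), ← card_mul_index χ.ker, index_ker, r, card_top,
      Nat.card_eq_fintype_card (α := ℤˣ), Fintype.card_units_int, mul_comm]
  · rw [hφ, (qm_eq_one (TD (RT (DR hd)))).2 hd]; simp
  · have := (mem a aT).1 e
    rw [sa] at this
    exact absurd this (by decide)
  · have xC := PC hx
    have aQ' : x⁻¹ * a * x ∈ Q := conj_mem_of_norm' (b.nq.norm (PN hx)) aQ
    refine (mem _ (RT (t.QR aQ'))).2 (h1 _ ?_)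
    rintro _ ⟨y, y1, y2, rfl⟩
    have l : cj x W ≤ V := (cj_mono x WV).trans (cj_of_mem_norm (b.sec.nV (PN hx))).le
    have y3 : x * y * x⁻¹ ∈ Cm (zpowers p) (cj x W) := by
      have := (conj_mem_cj (g := x)).2 y2
      rwa [cj_Cm, cj_of_mem_norm (s.nZ xC)] at this
    have dC : D ≤ Cm (zpowers p) (cj x W) := fun d hd =>
      Cm_anti (l.trans VU) ((s.ker d (PC (RP (DR hd)))).2 hd)
    have aC : a ∈ Cm (zpowers p) (cj x W) := cZ tr.1 (cent_mono l (b.sec.cq' aQ))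
    have fin : f * f ∉ Cm (zpowers p) (cj x W) := fun k =>
      x0 (mem_norm_of_cj_le (Wle _ l (mem_of_sq fo k)))
    have aT' := (trJ (inv_mem xC) tr).1
    rw [inv_inv] at aT'
    rw [hφ, ← qm_conj (n aT') (n y1.1)]
    rcases tri _ (trJ xC y1) with k | k | k
    · refine eq (mul_mem (mul_mem aT' y1.1) (inv_mem aT')) y1.1 ?_
      have := conj_mem_of_norm' (n xC) k
      convert this using 1
      group
    · refine absurd ?_ fin
      have := mul_mem (mul_mem (mul_mem (dC k) y3) (inv_mem aC)) (dC fi)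
      convert this using 1
      group
    · refine absurd ?_ fin
      have := mul_mem (inv_mem (mul_mem (mul_mem (dC k) y3) (inv_mem aC))) (dC (conj_mem_of_norm' nf fi))
      convert this using 1
      group

end H10.MS
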